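import Groth.Agent.LCZ.Supp
import Groth.Agent.SheafEmb.Basic
import Groth.Agent.SiteCoh.ClosedPush

/-!
Support of germs, the first Godement step, injectivity of `H_Z` of an injective.
-/

set_option autoImplicit false
set_option linter.style.haveILetI false
set_option linter.unusedSectionVars false
set_option backward.isDefEq.respectTransparency false
set_option backward.isDefEq.respectTransparency.types false

universe u

open CategoryTheory CategoryTheory.Limits Opposite TopologicalSpace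

namespace Groth.Agent.CohTopX

open Groth.Agent.LCZ

/-- A germ is the germ of a section supported in the closure of the point iff all its proper
cospecialisations vanish. -/
theorem exists_section_supported_iff {X : TopCat.{u}} [T0Space X] [QuasiSober X]
    (hX : ∀ x : X, ∃ U : Opens X, x ∈ U ∧ NoetherianSpace U) (F : TopCat.Sheaf AddCommGrpCat.{u} X) (x : X)
    (s : F.presheaf.stalk x) :
    (∃ (U : Opens X) (hx : x ∈ U) (t : F.presheaf.obj (op U)), F.presheaf.germ U x hx t = s ∧
      ∀ (u : X) (hu : u ∈ U), F.presheaf.germ U u hu t ≠ 0 → u ∈ closure ({x} : Set X)) ↔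
      ∀ (y : X) (h : y ⤳ x), y ≠ x → F.presheaf.stalkSpecializes h s = 0 := by
  constructor
  · rintro ⟨U, hx, t, rfl, ht⟩ y h hne
    have e := ConcreteCategory.congr_hom (F.presheaf.germ_stalkSpecializes hx h) t
    rw [ConcreteCategory.comp_apply] at e
    rw [e]
    by_contra h0
    exact hne (h.antisymm (specializes_iff_mem_closure.2 (ht y _ h0))).eq
  · intro H
    obtain ⟨U₀, hxU₀, hN⟩ := hX x
    obtain ⟨V, hxV, t₀, ht₀⟩ := F.presheaf.exists_germ_eq s
    let U : Opens X := V ⊓ U₀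
    let t : F.presheaf.obj (op U) := F.presheaf.map (homOfLE inf_le_left : U ⟶ V).op t₀
    have ht : F.presheaf.germ U x ⟨hxV, hxU₀⟩ t = s :=
      (F.presheaf.germ_res_apply (homOfLE inf_le_left : U ⟶ V) x ⟨hxV, hxU₀⟩ t₀).trans ht₀
    have : NoetherianSpace U :=
      (Topology.IsInducing.noetherianSpace (i := fun u : U => (⟨u.1, u.2.2⟩ : U₀))
        (Topology.IsInducing.of_comp (by fun_prop) continuous_subtype_val .subtypeVal))
    let S : Set U := {u | F.presheaf.germ U u.1 u.2 t ≠ 0}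
    have hS : IsClosed S := by
      rw [← isOpen_compl_iff, isOpen_iff_forall_mem_open]
      intro u hu
      obtain ⟨W, huW, i, i', e⟩ := F.presheaf.germ_eq u.1 u.2 u.2 t (0 : F.presheaf.obj (op U))
        ((not_not.1 hu).trans (map_zero _).symm)
      refine ⟨Subtype.val ⁻¹' (W : Set X), fun v hv => not_not.2 ?_, W.2.preimage continuous_subtype_val, huW⟩
      rw [← F.presheaf.germ_res_apply i v.1 hv t, e, map_zero, map_zero]
    obtain ⟨Z, hZf, hZc, hZi, hZ⟩ := NoetherianSpace.exists_finite_set_isClosed_irreducible hS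
    let Bad : Set U := ⋃₀ {z ∈ Z | (⟨x, hxV, hxU₀⟩ : U) ∉ z}
    have hBad : IsClosed Bad := by
      have hf : {z ∈ Z | (⟨x, hxV, hxU₀⟩ : U) ∉ z}.Finite := hZf.subset fun z hz => hz.1
      simp only [Bad, Set.sUnion_eq_biUnion]
      exact hf.isClosed_biUnion fun z hz => hZc z hz.1
    obtain ⟨W, hW, hWeq⟩ := (isOpen_induced_iff.1 hBad.isOpen_compl)
    let U' : Opens X := U ⊓ ⟨W, hW⟩
    have hxW : x ∈ W := by
      have : (⟨x, hxV, hxU₀⟩ : U) ∈ Badᶜ := fun h => by
        obtain ⟨z, hz, hxz⟩ := h; exact hz.2 hxz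
      rw [← hWeq] at this; exact this
    refine ⟨U', ⟨⟨hxV, hxU₀⟩, hxW⟩, F.presheaf.map (homOfLE inf_le_left : U' ⟶ U).op t,
      (F.presheaf.germ_res_apply (homOfLE inf_le_left : U' ⟶ U) x _ t).trans ht, fun u hu h0 => ?_⟩
    rw [F.presheaf.germ_res_apply (homOfLE inf_le_left : U' ⟶ U) u hu t] at h0
    have hu' : (⟨u, hu.1⟩ : U) ∈ S := h0
    rw [hZ] at hu'
    obtain ⟨z, hz, huz⟩ := hu'
    have hxz : (⟨x, hxV, hxU₀⟩ : U) ∈ z := by
      by_contra hxz
      have h1 : (⟨u, hu.1⟩ : U) ∉ Bad := by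
        have : (⟨u, hu.1⟩ : U) ∈ Subtype.val ⁻¹' W := hu.2
        rw [hWeq] at this; exact this
      exact h1 ⟨z, ⟨hz, hxz⟩, huz⟩
    have hi := (hZi z hz).image Subtype.val continuous_subtype_val.continuousOn
    let η := hi.genericPoint
    have hη : IsGenericPoint η (closure (Subtype.val '' z)) := hi.isGenericPoint_genericPoint_closure
    have hηx : η ⤳ x := hη.specializes (subset_closure ⟨_, hxz, rfl⟩)
    have hηu : η ⤳ u := hη.specializes (subset_closure ⟨_, huz, rfl⟩)
    have hηU : η ∈ U := hηx.mem_open U.isOpen ⟨hxV, hxU₀⟩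
    have hηz : (⟨η, hηU⟩ : U) ∈ z := by
      rw [← (hZc z hz).closure_eq, closure_subtype]
      exact hη.mem
    have hηS : (⟨η, hηU⟩ : U) ∈ S := by rw [hZ]; exact ⟨z, hz, hηz⟩
    by_cases hηeq : η = x
    · rw [hηeq] at hηu; exact specializes_iff_mem_closure.1 hηu
    · refine absurd ?_ hηS
      have e := ConcreteCategory.congr_hom (F.presheaf.germ_stalkSpecializes (U := U) ⟨hxV, hxU₀⟩ hηx) t
      rw [ConcreteCategory.comp_apply, ht, H η hηx hηeq] at e
      exact e.symm

section Godement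

variable {Y X : TopCat.{u}} [DiscreteTopology Y]

/-- Every abelian sheaf on a discrete space is flasque. -/
theorem isFlasque_of_discrete (G : CohTop.Ab Y) : TopCat.Sheaf.IsFlasque G := by
  rw [epi_res_iff]
  intro V V' h s
  let W : Opens Y := ⟨(V : Set Y) \ V', isOpen_discrete _⟩
  let A : ULift.{u} Bool → Opens Y := fun b => bif b.down then V' else W
  have hA : ∀ b, A b ≤ V := by
    rintro ⟨_ | _⟩
    exacts [fun x hx => hx.1, h]
  let sA : ∀ b, G.obj.obj (op (A b))
    | ⟨true⟩ => s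
    | ⟨false⟩ => 0
  haveI := Groth.Agent.SiteCoh.subsingleton_sections_bot G
  have hbot : ∀ {B : Opens Y}, B ≤ ⊥ → Subsingleton (G.obj.obj (op B)) := fun hB => by
    rw [le_bot_iff.1 hB]; infer_instance
  obtain ⟨g, hg, -⟩ := TopCat.Sheaf.existsUnique_gluing' G A V (fun b => homOfLE (hA b))
    (fun x hx => Opens.mem_iSup.2 (by
      by_cases hx' : x ∈ V'
      · exact ⟨⟨true⟩, hx'⟩
      · exact ⟨⟨false⟩, hx, hx'⟩)) sA (by
      rintro ⟨_ | _⟩ ⟨_ | _⟩
      · rfl
      · exact (hbot fun x hx => (hx.1.2 hx.2).elim).elim _ _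
      · exact (hbot fun x hx => (hx.2.2 hx.1).elim).elim _ _
      · rfl)
  exact ⟨g, hg ⟨true⟩⟩

variable (f : Y ⟶ X) (F : CohTop.Ab X)

/-- The product of the stalks. -/
noncomputable def stalkProd : TopCat.Presheaf AddCommGrpCat.{u} Y where
  obj W := AddCommGrpCat.of (∀ y : W.unop, CohTop.stalk F (f y.1))
  map h := AddCommGrpCat.ofHom (AddMonoidHom.mk' (fun a y => a ⟨y.1, leOfHom h.unop y.2⟩) fun _ _ => rfl)
  map_id _ := rfl
  map_comp _ _ := rfl

theorem stalkProd_isSheaf : (stalkProd f F).IsSheaf := by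
  rw [TopCat.Presheaf.isSheaf_iff_isSheafUniqueGluing]
  intro ι W sf cpt
  have hc : ∀ (i j : ι) (y : Y) (hi : y ∈ W i) (hj : y ∈ W j), sf i ⟨y, hi⟩ = sf j ⟨y, hj⟩ :=
    fun i j y hi hj => congrFun (cpt i j) ⟨y, hi, hj⟩
  choose k hk using fun y : (iSup W : Opens Y) => Opens.mem_iSup.1 y.2
  refine ⟨fun y => sf (k y) ⟨y.1, hk y⟩, fun i => funext fun y => hc _ i y.1 _ y.2, fun t ht => funext fun y => ?_⟩
  exact congrFun (ht (k y)) ⟨y.1, hk y⟩

/-- The germs, as a map to the direct image of the product of stalks. -/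
noncomputable def toStalkProd :
    F ⟶ (CohTop.push f).obj (⟨stalkProd f F, stalkProd_isSheaf f F⟩ : CohTop.Ab Y) :=
  ⟨{ app := fun V => AddCommGrpCat.ofHom (AddMonoidHom.mk'
      (fun s (y : (Opens.map f).obj V.unop) =>
        TopCat.Presheaf.germ (C := AddCommGrpCat.{u}) (X := X) F.obj V.unop (f y.1) y.2 s)
      fun a b => funext fun y => map_add _ a b)
     naturality := fun V W i => by
       ext s
       funext y
       exact TopCat.Presheaf.germ_res_apply (C := AddCommGrpCat.{u}) (X := X) F.obj i.unop (f y.1) y.2 s }⟩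

theorem mono_unit (hf : Function.Surjective f) :
    Mono ((TopCat.Sheaf.pullbackPushforwardAdjunction AddCommGrpCat.{u} f).unit.app F) := by
  let adj := TopCat.Sheaf.pullbackPushforwardAdjunction AddCommGrpCat.{u} f
  haveI : Mono (toStalkProd f F) := by
    refine (sheafToPresheaf _ _).mono_of_mono_map ?_
    refine @NatTrans.mono_of_mono_app _ _ _ _ _ _ _ fun V => (AddCommGrpCat.mono_iff_injective _).2 fun a b e => ?_
    refine TopCat.Presheaf.section_ext (C := AddCommGrpCat.{u}) F V.unop a b fun x hx => ?_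
    obtain ⟨y, rfl⟩ := hf x
    exact congrFun e ⟨y, hx⟩
  have : Mono (adj.unit.app F ≫ (CohTop.push f).map
      ((adj.homEquiv F _).symm (toStalkProd f F))) := by
    have e := (adj.homEquiv_unit F _ ((adj.homEquiv F _).symm (toStalkProd f F))).symm.trans
      (Equiv.apply_symm_apply _ _)
    exact e.symm ▸ (inferInstance : Mono (toStalkProd f F))
  exact mono_of_mono _ ((CohTop.push f).map ((adj.homEquiv F _).symm (toStalkProd f F)))

end Godement

theorem godement_first_step {X : TopCat.{u}} (F : CohTop.Ab X) :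
    Mono ((TopCat.Sheaf.pullbackPushforwardAdjunction AddCommGrpCat.{u} (TopCat.adj₁.counit.app X)).unit.app F) ∧
      TopCat.Sheaf.IsFlasque ((CohTop.push (TopCat.adj₁.counit.app X)).obj
        ((CohTop.pull (TopCat.adj₁.counit.app X)).obj F)) := by
  haveI : DiscreteTopology ↑((forget TopCat.{u} ⋙ TopCat.discrete).obj X) := ⟨rfl⟩
  refine ⟨mono_unit _ F fun x => ⟨x, rfl⟩, ?_⟩
  haveI := isFlasque_of_discrete ((CohTop.pull (TopCat.adj₁.counit.app X)).obj F)
  infer_instance

section HZ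

variable {X : TopCat.{u}} (U : Opens X)

local notation "iZ" => CohCx.inclCompl U

theorem isClosedEmbedding_inclCompl : Topology.IsClosedEmbedding (iZ) :=
  U.isOpen.isClosed_compl.isClosedEmbedding_subtypeVal

theorem exists_push_iso (G : CohTop.Ab X) (hG : ∀ V : Opens X, V ≤ U → Subsingleton (G.obj.obj (op V))) :
    ∃ M : CohTop.Ab (TopCat.of ((U : Set X)ᶜ : Set X)), Nonempty ((CohTop.push (iZ)).obj M ≅ G) := by
  let hi := isClosedEmbedding_inclCompl U
  let Gt : X.Sheaf (Type u) :=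
    ⟨G.obj ⋙ forget AddCommGrpCat.{u}, (TopCat.Presheaf.isSheaf_iff_isSheaf_comp' (forget AddCommGrpCat.{u}) G.obj).1 G.property⟩
  have hGt : ∀ x : X, x ∉ Set.range (iZ) → Nonempty (Unique (Gt.presheaf.stalk x)) := by
    intro x hx
    have hxU : x ∈ U := by by_contra h; exact hx ⟨⟨x, h⟩, rfl⟩
    refine ⟨{ default := Gt.presheaf.germ U x hxU (0 : G.obj.obj (op U)), uniq := fun t => ?_ }⟩
    obtain ⟨V, hxV, s, rfl⟩ := Gt.presheaf.exists_germ_eq t
    change _ = Gt.presheaf.germ U x hxU _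
    rw [← Gt.presheaf.germ_res_apply (homOfLE (inf_le_left : V ⊓ U ≤ V)) x ⟨hxV, hxU⟩ s,
      ← Gt.presheaf.germ_res_apply (homOfLE (inf_le_right : V ⊓ U ≤ U)) x ⟨hxV, hxU⟩ (0 : G.obj.obj (op U))]
    exact congrArg _ ((hG _ inf_le_right).elim _ _)
  obtain ⟨N, ⟨e⟩⟩ := Groth.Agent.SheafEmb.mem_essImage hi Gt hGt
  have hK : ∀ W, (Opens.map (iZ)).obj (hi.isInducing.functorObj W) = W := hi.isInducing.map_functorObj
  let P : TopCat.Presheaf AddCommGrpCat.{u} (TopCat.of ((U : Set X)ᶜ : Set X)) := hi.isInducing.functor.op ⋙ G.obj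
  have hP : P.IsSheaf := by
    rw [TopCat.Presheaf.isSheaf_iff_isSheaf_comp' (forget AddCommGrpCat.{u})]
    refine TopCat.Presheaf.isSheaf_of_iso ?_ N.property
    exact (Functor.leftUnitor _).symm ≪≫
      Functor.isoWhiskerRight (NatIso.ofComponents (fun W => eqToIso (congrArg op (hK W.unop)).symm)
        (fun _ => Subsingleton.elim _ _) : 𝟭 _ ≅ hi.isInducing.functor.op ⋙ (Opens.map (iZ)).op) N.obj ≪≫
      Functor.associator _ _ _ ≪≫
      Functor.isoWhiskerLeft hi.isInducing.functor.op ((sheafToPresheaf _ _).mapIso e) ≪≫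
      (Functor.associator _ _ _).symm
  have hle : ∀ V : Opens X, V ≤ hi.isInducing.functorObj ((Opens.map (iZ)).obj V) := fun V =>
    hi.isInducing.le_functorObj_iff.2 le_rfl
  haveI : ∀ V : Opens X, IsIso (G.obj.map (homOfLE (hle V)).op) := fun V => by
    rw [ConcreteCategory.isIso_iff_bijective]
    exact Groth.Agent.SheafEmb.res_bijective hi Gt hGt (hle V) fun z hz =>
      (hi.isInducing.mem_functorObj_iff ((Opens.map (iZ)).obj V)).1 hz
  refine ⟨⟨P, hP⟩, ⟨(fullyFaithfulSheafToPresheaf _ _).preimageIso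
    (NatIso.ofComponents (fun V => asIso (G.obj.map (homOfLE (hle V.unop)).op)) fun {V V'} f => ?_)⟩⟩
  change G.obj.map _ ≫ G.obj.map _ = G.obj.map _ ≫ G.obj.map _
  rw [← G.obj.map_comp, ← G.obj.map_comp]
  rfl

theorem sectSupp_subsingleton (F : CohTop.Ab X) (V : Opens X) (hV : V ≤ U) :
    Subsingleton ((CohCx.sectSupp U F).obj.obj (op V)) := by
  refine ⟨fun a b => suppι_injective U F V ?_⟩
  have h : ∀ t, (suppι U F).hom.app (op V) t = 0 := fun t => by
    have := congrArg (res F (le_inf le_rfl hV : V ≤ V ⊓ U)) (res_suppι U F t)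
    rwa [res_res, res_self, map_zero] at this
  exact (h a).trans (h b).symm

theorem push_comp_unit_eq_zero (B : CohTop.Ab (TopCat.of ((U : Set X)ᶜ : Set X))) (I : CohTop.Ab X)
    (φ : (CohTop.push (iZ)).obj B ⟶ I) : φ ≫ unit U I = 0 := by
  refine CategoryTheory.Sheaf.hom_ext (NatTrans.ext (funext fun V => AddCommGrpCat.ext fun t => ?_))
  change (unit U I).hom.app V (φ.hom.app V t) = 0
  rw [unit_app_eq_zero_iff U I V.unop, ← app_res]
  have hs : Subsingleton (B.obj.obj (op ((Opens.map (iZ)).obj (V.unop ⊓ U)))) := by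
    haveI := Groth.Agent.SiteCoh.subsingleton_sections_bot B
    rw [show (Opens.map (iZ)).obj (V.unop ⊓ U) = ⊥ from le_bot_iff.1 fun z hz => z.2 hz.2]
    infer_instance
  exact (congrArg (φ.hom.app _) (hs.elim _ 0)).trans (map_zero _)

theorem HZ_injective (I : CohTop.Ab X) [Injective I] : Injective (CohCx.HZ U I) := by
  obtain ⟨M, ⟨e⟩⟩ := exists_push_iso U (CohCx.sectSupp U I) (sectSupp_subsingleton U I)
  let hff := Groth.Agent.SheafEmb.pushforward_full_faithful (A := AddCommGrpCat.{u}) (iZ)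
    (isClosedEmbedding_inclCompl U).isInducing
  haveI : (CohTop.push (iZ)).Full := hff.1
  haveI : (CohTop.push (iZ)).Faithful := hff.2
  let adj := TopCat.Sheaf.pullbackPushforwardAdjunction AddCommGrpCat.{u} (iZ)
  haveI : (CohTop.push (iZ)).IsRightAdjoint := adj.isRightAdjoint
  have hM : Injective M := by
    refine ⟨fun {A B} g m hm => ?_⟩
    haveI : Mono ((CohTop.push (iZ)).map m) := inferInstance
    let ψ := Injective.factorThru ((CohTop.push (iZ)).map g ≫ e.hom ≫ kernel.ι (unit U I))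
      ((CohTop.push (iZ)).map m)
    obtain ⟨χ, hχ⟩ := (CohTop.push (iZ)).map_surjective
      (kernel.lift (unit U I) ψ (push_comp_unit_eq_zero U B I ψ) ≫ e.inv)
    refine ⟨χ, (CohTop.push (iZ)).map_injective ?_⟩
    rw [Functor.map_comp, hχ, ← cancel_mono e.hom, ← cancel_mono (kernel.ι (unit U I))]
    simp [ψ]
  exact Injective.of_iso ((asIso (adj.counit.app M)).symm ≪≫ (CohTop.pull (iZ)).mapIso e) hM

end HZ

end Groth.Agent.CohTopX
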